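import Groth.Agent.Lead.ShriekIndep.OpenBC
import Groth.Agent.L19.Approx.FiniteExtend
import Groth.Agent.L18.PBundle.FTProj
import Groth.Agent.S8603
import Groth.Agent.S0384
import Groth.Agent.L21.Mod.Locality

/-!
Independence of the upper shriek of the compactification.
-/

set_option autoImplicit false
set_option linter.style.haveILetI false
set_option backward.defeqAttrib.useBackward true
set_option backward.isDefEq.respectTransparency false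
set_option backward.isDefEq.respectTransparency.types false

universe u

open CategoryTheory CategoryTheory.Limits AlgebraicGeometry

attribute [local instance] HasDerivedCategory.standard

noncomputable section

namespace Groth.Lead.ShriekIndep

open Groth.L00 Groth.L29 Groth.L29.DC Groth.L29.BCAdj Groth.L10.ShriekLoc

variable {X X₁ X₂ Y : Scheme.{u}}

/-- a chosen right adjoint -/
theorem exists_adj {X Y : Scheme.{u}} [CompactSpace Y] [QuasiSeparatedSpace Y] (f : X ⟶ Y) [QuasiCompact f]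
    [QuasiSeparated f] [DCoh.HasRpush f] :
    ∃ a : DCoh.DQCoh Y ⥤ DCoh.DQCoh X, Nonempty (DCoh.RpushQ f (isQCohD_push f) ⊣ a) := by
  haveI : CompactSpace X := QuasiCompact.compactSpace_of_compactSpace f
  haveI : QuasiSeparatedSpace X := quasiSeparatedSpace_of_quasiSeparated f
  exact exists_adjoint f

/-- the right adjoint along the identity is the identity -/
theorem nonempty_adj_id (X : Scheme.{u}) [DCoh.HasRpush (𝟙 X)] (h : DCoh.RpushPreservesQCoh (𝟙 X)) :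
    Nonempty (DCoh.RpushQ (𝟙 X) h ⊣ 𝟭 (DCoh.DQCoh X)) := by
  obtain ⟨r⟩ := Groth.L10.FMDiag.nonempty_Rpush_id (X := X)
  let e : DCoh.RpushQ (𝟙 X) h ≅ 𝟭 (DCoh.DQCoh X) :=
    NatIso.ofComponents (fun M => ObjectProperty.isoMk _ (r.app M.obj))
      fun m => ObjectProperty.hom_ext _ (r.hom.naturality m.hom)
  exact ⟨Adjunction.id.ofNatIsoLeft e.symm⟩

set_option maxHeartbeats 3200000 in
/-- composing with a proper morphism which is invertible over the open -/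
theorem nonempty_dominated [IsNoetherian Y] (π : X₂ ⟶ X₁) [IsProper π] (f₁ : X₁ ⟶ Y) [IsProper f₁]
    (f₂ : X₂ ⟶ Y) (hπ : π ≫ f₁ = f₂) (j₁ : X ⟶ X₁) [IsOpenImmersion j₁] (j₂ : X ⟶ X₂) [IsOpenImmersion j₂]
    (hsq : IsPullback j₂ (𝟙 X) π j₁) [DCoh.HasRpush f₁] [DCoh.HasRpush f₂]
    {h₁ : DCoh.RpushPreservesQCoh f₁} {h₂ : DCoh.RpushPreservesQCoh f₂}
    {a₁ : DCoh.DQCoh Y ⥤ DCoh.DQCoh X₁} {a₂ : DCoh.DQCoh Y ⥤ DCoh.DQCoh X₂}
    (adj₁ : DCoh.RpushQ f₁ h₁ ⊣ a₁) (adj₂ : DCoh.RpushQ f₂ h₂ ⊣ a₂)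
    [PreservesFiniteLimits (Scheme.Modules.restrictFunctor j₁)]
    [PreservesFiniteLimits (Scheme.Modules.restrictFunctor j₂)] :
    Nonempty (Dual3.bddι Y ⋙ a₂ ⋙ ObjectProperty.ι _ ⋙ DCoh.restrictD j₂ ≅
      Dual3.bddι Y ⋙ a₁ ⋙ ObjectProperty.ι _ ⋙ DCoh.restrictD j₁) := by
  haveI := fun {A B : Scheme.{u}} (k : A ⟶ B) => RpushQC.hasRpush k
  haveI := fun {A B : Scheme.{u}} (k : A ⟶ B) => KFlat.hasLpull k
  haveI : IsLocallyNoetherian X₁ := LocallyOfFiniteType.isLocallyNoetherian f₁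
  haveI : CompactSpace X₁ := QuasiCompact.compactSpace_of_compactSpace f₁
  haveI : IsNoetherian X₁ := {}
  obtain ⟨aπ, ⟨adjπ⟩⟩ := exists_adj π
  obtain ⟨adj⟩ := nonempty_comp_adjoint hπ h₂ adjπ adj₁
  let u : a₂ ≅ a₁ ⋙ aπ := adj₂.rightAdjointUniq adj
  obtain ⟨adjX⟩ := nonempty_adj_id X (isQCohD_push (𝟙 X))
  obtain ⟨bc⟩ := nonempty_openBC hsq adjπ adjX
  obtain ⟨l₁⟩ := nonempty_Lpull_restrictD j₁
  obtain ⟨l₂⟩ := nonempty_Lpull_restrictD j₂
  have hb : ∀ K : (Dual3.IsBddBelowQ Y).FullSubcategory, Dual3.IsBddBelowQ X₁ (a₁.obj K.obj) := fun K => by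
    obtain ⟨c, hc⟩ := K.property
    exact exists_isGE adj₁ K.obj c hc
  let A : (Dual3.IsBddBelowQ Y).FullSubcategory ⥤ (Dual3.IsBddBelowQ X₁).FullSubcategory :=
    ObjectProperty.lift _ (Dual3.bddι Y ⋙ a₁) hb
  exact ⟨Functor.isoWhiskerLeft (Dual3.bddι Y) (Functor.isoWhiskerRight u (ObjectProperty.ι _ ⋙ DCoh.restrictD j₂)) ≪≫
    Functor.isoWhiskerLeft (A ⋙ Dual3.bddι X₁ ⋙ aπ ⋙ ObjectProperty.ι _) l₂.symm ≪≫
    Functor.isoWhiskerLeft A bc ≪≫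
    Functor.isoWhiskerLeft (A ⋙ Dual3.bddι X₁ ⋙ ObjectProperty.ι _) l₁⟩

/-- compactifications can be replaced by ones with schematically dense image -/
theorem exists_dense {f : X ⟶ Y} (c : DEt.Compactification f) [QuasiCompact c.j] :
    ∃ (d : DEt.Compactification f) (p : d.Xbar ⟶ c.Xbar),
      IsProper p ∧ d.j ≫ p = c.j ∧ p ≫ c.fbar = d.fbar ∧ IsDominant d.j := by
  haveI := Groth.L18.PBundle.isOpenImmersion_toImage c.j
  exact ⟨⟨c.j.image, c.j.toImage, c.j.imageι ≫ c.fbar, inferInstance, inferInstance,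
      by rw [c.j.toImage_imageι_assoc, c.fac]⟩, c.j.imageι, inferInstance, c.j.toImage_imageι, rfl,
    show IsDominant c.j.toImage from inferInstance⟩

set_option maxHeartbeats 1600000 in
/-- the upper shriek does not depend on the compactification -/
theorem nonempty_indep [IsNoetherian X] [IsNoetherian Y] {f : X ⟶ Y} (c₁ c₂ : DEt.Compactification f)
    [DCoh.HasRpush c₁.fbar] [DCoh.HasRpush c₂.fbar]
    {h₁ : DCoh.RpushPreservesQCoh c₁.fbar} {h₂ : DCoh.RpushPreservesQCoh c₂.fbar}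
    {a₁ : DCoh.DQCoh Y ⥤ DCoh.DQCoh c₁.Xbar} {a₂ : DCoh.DQCoh Y ⥤ DCoh.DQCoh c₂.Xbar}
    (adj₁ : DCoh.RpushQ c₁.fbar h₁ ⊣ a₁) (adj₂ : DCoh.RpushQ c₂.fbar h₂ ⊣ a₂)
    [PreservesFiniteLimits (Scheme.Modules.restrictFunctor c₁.j)]
    [PreservesFiniteLimits (Scheme.Modules.restrictFunctor c₂.j)] :
    Nonempty (Dual3.bddι Y ⋙ Dual3.shriekC c₁ a₁ ≅ Dual3.bddι Y ⋙ Dual3.shriekC c₂ a₂) := by
  haveI := fun {A B : Scheme.{u}} (k : A ⟶ B) => RpushQC.hasRpush k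
  haveI : QuasiSeparatedSpace X := inferInstance
  obtain ⟨c, p₁, p₂, hp₁, hp₂, e₁, e₂, w₁, w₂⟩ := Groth.Agent.S8603.result c₁ c₂
  haveI : QuasiCompact c.j := inferInstance
  obtain ⟨d, p, hp, ep, wp, hd⟩ := exists_dense c
  haveI : IsDominant d.j := hd
  obtain ⟨a, ⟨adj⟩⟩ := exists_adj d.fbar
  haveI : PreservesFiniteLimits (Scheme.Modules.restrictFunctor d.j) := inferInstance
  have hs₁ : IsPullback d.j (𝟙 X) (p ≫ p₁) c₁.j :=
    Groth.L19.Approx.isPullback_of_isOpenImmersion_dominant d.j (p ≫ p₁) c₁.j (𝟙 X)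
      (by rw [reassoc_of% ep, e₁, Category.id_comp])
  have hs₂ : IsPullback d.j (𝟙 X) (p ≫ p₂) c₂.j :=
    Groth.L19.Approx.isPullback_of_isOpenImmersion_dominant d.j (p ≫ p₂) c₂.j (𝟙 X)
      (by rw [reassoc_of% ep, e₂, Category.id_comp])
  obtain ⟨i₁⟩ := nonempty_dominated (p ≫ p₁) c₁.fbar d.fbar (by rw [Category.assoc, w₁, wp]) c₁.j d.j hs₁ adj₁ adj
  obtain ⟨i₂⟩ := nonempty_dominated (p ≫ p₂) c₂.fbar d.fbar (by rw [Category.assoc, w₂, wp]) c₂.j d.j hs₂ adj₂ adj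
  exact ⟨i₁.symm ≪≫ i₂⟩

set_option maxHeartbeats 1600000 in
/-- the upper shriek of a composition -/
theorem nonempty_comp {Z : Scheme.{u}} [IsNoetherian X] [IsNoetherian Y] [IsNoetherian Z] {f : X ⟶ Y} {g : Y ⟶ Z}
    (cf : DEt.Compactification f) (cg : DEt.Compactification g) (cgf : DEt.Compactification (f ≫ g))
    [DCoh.HasRpush cf.fbar] [DCoh.HasRpush cg.fbar] [DCoh.HasRpush cgf.fbar]
    {hf : DCoh.RpushPreservesQCoh cf.fbar} {hg : DCoh.RpushPreservesQCoh cg.fbar}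
    {hgf : DCoh.RpushPreservesQCoh cgf.fbar}
    {a : DCoh.DQCoh Y ⥤ DCoh.DQCoh cf.Xbar} {b : DCoh.DQCoh Z ⥤ DCoh.DQCoh cg.Xbar}
    {c : DCoh.DQCoh Z ⥤ DCoh.DQCoh cgf.Xbar}
    (adjf : DCoh.RpushQ cf.fbar hf ⊣ a) (adjg : DCoh.RpushQ cg.fbar hg ⊣ b) (adjgf : DCoh.RpushQ cgf.fbar hgf ⊣ c)
    [∀ (U V : Scheme.{u}) (j : U ⟶ V) [IsOpenImmersion j], PreservesFiniteLimits (Scheme.Modules.restrictFunctor j)]
    (hres : ∀ K : DCoh.D cg.Xbar, DCoh.IsQCohD K → DCoh.IsQCohD ((DCoh.restrictD cg.j).obj K)) :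
    Nonempty (Dual3.bddι Z ⋙ Dual3.shriekC cgf c ≅ Dual3.bddι Z ⋙
      ObjectProperty.lift DCoh.IsQCohD (Dual3.shriekC cg b) (fun K => hres (b.obj K).obj (b.obj K).property) ⋙
        Dual3.shriekC cf a) := by
  haveI := fun {A B : Scheme.{u}} (k : A ⟶ B) => RpushQC.hasRpush k
  haveI := fun {A B : Scheme.{u}} (k : A ⟶ B) => KFlat.hasLpull k
  haveI : IsLocallyNoetherian cg.Xbar := LocallyOfFiniteType.isLocallyNoetherian cg.fbar
  haveI : CompactSpace cg.Xbar := QuasiCompact.compactSpace_of_compactSpace cg.fbar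
  haveI : IsNoetherian cg.Xbar := {}
  haveI : IsLocallyNoetherian cf.Xbar := LocallyOfFiniteType.isLocallyNoetherian cf.fbar
  haveI : CompactSpace cf.Xbar := QuasiCompact.compactSpace_of_compactSpace cf.fbar
  haveI : IsNoetherian cf.Xbar := {}
  let h := cf.fbar ≫ cg.j
  haveI : QuasiCompact cg.j := inferInstance
  obtain ⟨W₀, i₀, hb₀, hi₀, hi₀', hp₀, e₀⟩ := Groth.Agent.S0384.result h
  haveI := hi₀; haveI := hi₀'; haveI := hp₀
  obtain ⟨d, p, hp, ep, wp, hd⟩ := exists_dense (f := h) ⟨W₀, i₀, hb₀, hi₀, hp₀, e₀⟩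
  haveI : IsDominant d.j := hd
  haveI : IsProper (d.fbar ≫ cg.fbar) := inferInstance
  have hsq : IsPullback d.j cf.fbar d.fbar cg.j :=
    Groth.L19.Approx.isPullback_of_isOpenImmersion_dominant d.j d.fbar cg.j cf.fbar d.fac
  let c₃ : DEt.Compactification (f ≫ g) := ⟨d.Xbar, cf.j ≫ d.j, d.fbar ≫ cg.fbar, inferInstance, inferInstance,
    by
      rw [Category.assoc, reassoc_of% d.fac]
      simp only [h, Category.assoc, cg.fac]
      rw [reassoc_of% cf.fac]⟩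
  obtain ⟨aW, ⟨adjW⟩⟩ := exists_adj d.fbar
  obtain ⟨adj₃⟩ := nonempty_comp_adjoint (show d.fbar ≫ cg.fbar = c₃.fbar from rfl) (isQCohD_push c₃.fbar) adjW adjg
  haveI : PreservesFiniteLimits (Scheme.Modules.restrictFunctor c₃.j) := inferInstance
  obtain ⟨i⟩ := nonempty_indep cgf c₃ adjgf adj₃
  obtain ⟨bc⟩ := nonempty_openBC hsq adjW adjf
  obtain ⟨l₁⟩ := nonempty_Lpull_restrictD cg.j
  obtain ⟨l₂⟩ := nonempty_Lpull_restrictD d.j
  obtain ⟨l₃⟩ := nonempty_Lpull_restrictD c₃.j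
  obtain ⟨l₄⟩ := nonempty_Lpull_restrictD cf.j
  obtain ⟨k⟩ := Groth.L10.FMBC.nonempty_lpull_comp' cf.j d.j (show cf.j ≫ d.j = c₃.j from rfl)
  have hb : ∀ K : (Dual3.IsBddBelowQ Z).FullSubcategory, Dual3.IsBddBelowQ cg.Xbar (b.obj K.obj) := fun K => by
    obtain ⟨n, hn⟩ := K.property
    exact exists_isGE adjg K.obj n hn
  let B : (Dual3.IsBddBelowQ Z).FullSubcategory ⥤ (Dual3.IsBddBelowQ cg.Xbar).FullSubcategory :=
    ObjectProperty.lift _ (Dual3.bddι Z ⋙ b) hb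
  let L : DCoh.DQCoh cg.Xbar ⥤ DCoh.DQCoh Y :=
    ObjectProperty.lift DCoh.IsQCohD (ObjectProperty.ι _ ⋙ DCoh.restrictD cg.j) fun K => hres K.obj K.property
  let eL : Dual3.LpullQ cg.j (isQCohD_pull cg.j) ≅ L :=
    NatIso.ofComponents (fun M => ObjectProperty.isoMk _ (l₁.app M.obj))
      fun m => ObjectProperty.hom_ext _ (l₁.hom.naturality m.hom)
  exact ⟨i ≪≫
    Functor.isoWhiskerLeft (B ⋙ Dual3.bddι cg.Xbar ⋙ aW ⋙ ObjectProperty.ι _) (l₃.symm ≪≫ k.symm) ≪≫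
    Functor.isoWhiskerLeft B (Functor.isoWhiskerRight bc (DCoh.Lpull cf.j)) ≪≫
    Functor.isoWhiskerLeft (B ⋙ Dual3.bddι cg.Xbar)
      (Functor.isoWhiskerRight eL (a ⋙ ObjectProperty.ι _ ⋙ DCoh.Lpull cf.j)) ≪≫
    Functor.isoWhiskerLeft (B ⋙ Dual3.bddι cg.Xbar ⋙ L ⋙ a ⋙ ObjectProperty.ι _) l₄⟩

end Groth.Lead.ShriekIndep
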