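import Groth.Agent.L10.ShriekLoc.OpenBC
import Groth.Agent.L10.ShriekLoc.Core
import Groth.Agent.L29.DCoh.Cpt.Compact

/-!
Natural open base change for right adjoints of derived direct images.
-/

set_option autoImplicit false
set_option linter.style.haveILetI false
set_option backward.defeqAttrib.useBackward true
set_option backward.isDefEq.respectTransparency false
set_option backward.isDefEq.respectTransparency.types false

universe u

open CategoryTheory CategoryTheory.Limits CategoryTheory.Pretriangulated AlgebraicGeometry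

attribute [local instance] HasDerivedCategory.standard

noncomputable section

namespace Groth.Lead.ShriekIndep

open Groth.L00 Groth.L29 Groth.L29.DC Groth.L29.BCAdj Groth.L10.ShriekLoc

variable {X Y U V : Scheme.{u}}

theorem nonempty_Lpull_restrictD (j : U ⟶ X) [IsOpenImmersion j] [DCoh.HasLpull j]
    [PreservesFiniteLimits (Scheme.Modules.restrictFunctor j)] :
    Nonempty (DCoh.Lpull j ≅ DCoh.restrictD j) := by
  haveI := RpushQC.hasRpush j
  exact ⟨(BC.adj j).leftAdjointUniq (Cpt.restrictRpushAdj j)⟩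

set_option maxHeartbeats 3200000 in
/-- `Lj'^* a ≅ a' Lj^*` on bounded below objects -/
theorem nonempty_openBC [IsNoetherian Y] {f : X ⟶ Y} [IsProper f] {f' : U ⟶ V} {j' : U ⟶ X} {j : V ⟶ Y}
    [IsOpenImmersion j] (hsq : IsPullback j' f' f j)
    [DCoh.HasRpush f] [DCoh.HasRpush f'] [DCoh.HasLpull j'] [DCoh.HasLpull j]
    {hf : DCoh.RpushPreservesQCoh f} {hf' : DCoh.RpushPreservesQCoh f'}
    {a : DCoh.DQCoh Y ⥤ DCoh.DQCoh X} {a' : DCoh.DQCoh V ⥤ DCoh.DQCoh U}
    (adj : DCoh.RpushQ f hf ⊣ a) (adj' : DCoh.RpushQ f' hf' ⊣ a') :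
    Nonempty (Dual3.bddι Y ⋙ a ⋙ ObjectProperty.ι _ ⋙ DCoh.Lpull j' ≅
      Dual3.bddι Y ⋙ Dual3.LpullQ j (isQCohD_pull j) ⋙ a' ⋙ ObjectProperty.ι _) := by
  haveI := fun {A B : Scheme.{u}} (k : A ⟶ B) => RpushQC.hasRpush k
  haveI := fun {A B : Scheme.{u}} (k : A ⟶ B) => KFlat.hasLpull k
  haveI : IsLocallyNoetherian X := LocallyOfFiniteType.isLocallyNoetherian f
  haveI : CompactSpace X := QuasiCompact.compactSpace_of_compactSpace f
  haveI : IsNoetherian X := {}
  haveI : IsOpenImmersion j' := MorphismProperty.of_isPullback hsq.flip inferInstance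
  haveI : QuasiCompact j := inferInstance
  haveI : CompactSpace V := QuasiCompact.compactSpace_of_compactSpace j
  haveI : QuasiCompact j' := inferInstance
  let hg := isQCohD_push j
  let hg' := isQCohD_push j'
  let hLg := isQCohD_pull j
  let hLg' := isQCohD_pull j'
  let adjg := adjQ j hg hLg
  let adjg' := adjQ j' hg' hLg'
  have hBC := BC.BC_flat hsq
  have hθ := isIso_bcQ (hf := hf) (hf' := hf') adjg adjg' hBC
  let e := eQ hf hf' hg hg' hsq.w
  have key : ∀ (K : DCoh.DQCoh Y) (c : ℤ), K.obj.IsGE c →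
      IsIso ((DCoh.Lpull j').map (a.map (adjg.unit.app K)).hom) := by
    intro K c hK
    let KV : DCoh.DQCoh V := (Dual3.LpullQ j hLg).obj K
    -- the cone of the unit vanishes on `V`
    let η := adjg.unit.app K
    letI := Gen.commShiftRpush f
    haveI := Gen.isTriangulated_Rpush f
    haveI : (DCoh.RpushQ f hf).IsTriangulated := by
      refine ⟨fun T hT => ?_⟩
      exact isomorphic_distinguished _ ((ObjectProperty.ι DCoh.IsQCohD ⋙ DCoh.Rpush f).map_distinguished _ hT) _
        ((Functor.mapTriangleCompIso (DCoh.RpushQ f hf) (ObjectProperty.ι DCoh.IsQCohD)).symm.app T ≪≫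
          (Functor.mapTriangleIso (ObjectProperty.liftCompιIso DCoh.IsQCohD _ _)).app T)
    letI := adj.rightAdjointCommShift ℤ
    haveI := adj.commShift_of_leftAdjoint ℤ
    haveI := adj.isTriangulated_rightAdjoint
    obtain ⟨C, q, d, hT⟩ := distinguished_cocone_triangle η
    have hTY := (DCoh.IsQCohD (X := Y)).ι.map_distinguished _ hT
    have hTX := (DCoh.IsQCohD (X := X)).ι.map_distinguished _ (a.map_distinguished _ hT)
    letI := BC.commShiftLpull j
    haveI := BC.isTriangulated_Lpull j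
    letI := BC.commShiftLpull j'
    haveI := BC.isTriangulated_Lpull j'
    have hη : IsIso ((DCoh.Lpull j).map η.hom) := by
      haveI : IsIso adjg.counit := by
        obtain ⟨i⟩ := nonempty_open_counitQ j hg hLg
        exact adjg.isIso_counit_of_iso i
      haveI : IsIso ((Dual3.LpullQ j hLg).map η) :=
        IsIso.of_isIso_fac_right (hh := IsIso.id _) (adjg.left_triangle_components K)
      exact inferInstanceAs (IsIso ((DCoh.IsQCohD (X := V)).ι.map ((Dual3.LpullQ j hLg).map η)))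
    -- bounded below
    haveI := hK
    haveI : KV.obj.IsGE c := BCAdj.isGE_Lpull_flat j K.obj c hK
    have hCge : C.obj.IsGE (c - 1) := by
      let t := DerivedCategory.TStructure.t (C := Y.Modules)
      have h1 : t.IsGE ((DCoh.Rpush j).obj KV.obj) (c - 1) :=
        haveI : t.IsGE ((DCoh.Rpush j).obj KV.obj) c := RpushQC.isGE_Rpush j KV.obj c
        t.isGE_of_ge _ (c - 1) c (by omega)
      have h2 : t.IsGE (K.obj⟦(1 : ℤ)⟧) (c - 1) :=
        haveI : t.IsGE K.obj c := hK
        t.isGE_shift K.obj c 1 (c - 1) (by omega)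
      exact t.isGE₂ _ (rot_of_distTriang _ hTY) (c - 1) h1 h2
    haveI : ∀ {A B : Scheme.{u}} (k : A ⟶ B), (DCoh.Lpull k).Additive := fun {A B} k =>
      haveI := RpushColim.additive_Rpush k
      (BC.adj k).left_adjoint_additive
    let VV := j.opensRange
    let iV := j.isoOpensRange
    have hC0 : IsZero ((DCoh.Lpull j).obj C.obj) :=
      (Triangle.isZero₃_iff_isIso₁ _ ((DCoh.Lpull j).map_distinguished _ hTY)).2 hη
    have hCV : IsZero ((resD VV).obj C.obj) := by
      obtain ⟨r⟩ := nonempty_Lpull_iso_restrictD VV.ι C.obj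
      obtain ⟨c₁⟩ := Groth.L10.FMBC.nonempty_lpull_comp' iV.inv j (j.isoOpensRange_inv_comp)
      exact ((DCoh.Lpull iV.inv).map_isZero hC0).of_iso (r.symm ≪≫ (c₁.app C.obj).symm)
    have haC : IsZero ((resD (f ⁻¹ᵁ VV)).obj (a.obj C).obj) :=
      BC.SupportAdj.isZero_res_adjoint f VV (by rw [Scheme.Hom.coe_opensRange]; exact isCompact_range j.continuous) hf a adj C
        (fun P hP E _ _ hE => by
          obtain ⟨i⟩ := hE
          exact BC.SupportAdj.qcoh_RHom_of_pc
            (fun m => isPseudoCoherentD_of_iso i.symm (BC.SupportAdj.pc_Rpush_perfect f hP m)) C.property (c - 1) hCge) hCV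
    have haC' : IsZero ((DCoh.Lpull j').obj (a.obj C).obj) := by
      obtain ⟨r⟩ := nonempty_Lpull_iso_restrictD (f ⁻¹ᵁ VV).ι (a.obj C).obj
      let k : U ⟶ (f ⁻¹ᵁ VV : X.Opens) := IsOpenImmersion.lift (f ⁻¹ᵁ VV).ι j' (by
        rw [Scheme.Opens.range_ι]
        rintro _ ⟨z, rfl⟩
        exact ⟨f' z, by rw [← Scheme.Hom.comp_apply, ← hsq.w]; rfl⟩)
      obtain ⟨c₂⟩ := Groth.L10.FMBC.nonempty_lpull_comp' k (f ⁻¹ᵁ VV).ι (IsOpenImmersion.lift_fac _ _ _)
      exact ((DCoh.Lpull k).map_isZero (haC.of_iso r)).of_iso (c₂.app _).symm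
    exact (Triangle.isZero₃_iff_isIso₁ _ ((DCoh.Lpull j').map_distinguished _ hTX)).1 haC'
  -- unit
  let η : Dual3.bddι Y ⋙ a ⋙ ObjectProperty.ι _ ⋙ DCoh.Lpull j' ⟶
      Dual3.bddι Y ⋙ (Dual3.LpullQ j hLg ⋙ DCoh.RpushQ j hg) ⋙ a ⋙ ObjectProperty.ι _ ⋙ DCoh.Lpull j' :=
    Functor.whiskerLeft (Dual3.bddι Y) (Functor.whiskerRight adjg.unit (a ⋙ ObjectProperty.ι _ ⋙ DCoh.Lpull j'))
  haveI : ∀ K, IsIso (η.app K) := fun K => key K.obj _ K.property.choose_spec
  haveI : IsIso η := NatIso.isIso_of_isIso_app η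
  -- xi
  have hnat : ∀ {M N : DCoh.DQCoh V} (m : M ⟶ N),
      (DCoh.RpushQ j' hg').map (a'.map m) ≫ Dual3.xi adj adj' e N =
        Dual3.xi adj adj' e M ≫ a.map ((DCoh.RpushQ j hg).map m) := fun {M N} m => by
    simp only [Dual3.xi]
    rw [← Adjunction.homEquiv_naturality_left, ← Adjunction.homEquiv_naturality_right]
    refine congrArg (adj.homEquiv _ _) ?_
    refine (e.hom.naturality_assoc (a'.map m) _).trans ?_
    rw [Category.assoc, Functor.comp_map]
    rw [← (DCoh.RpushQ j hg).map_comp, ← (DCoh.RpushQ j hg).map_comp]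
    exact congrArg (fun t => e.hom.app (a'.obj M) ≫ (DCoh.RpushQ j hg).map t) (adj'.counit.naturality m)
  haveI : ∀ M, IsIso (Dual3.xi adj adj' e M) := fun M => Mate.isIso_xi adj adj' e adjg adjg' hθ M
  let v : DCoh.RpushQ j hg ⋙ a ≅ a' ⋙ DCoh.RpushQ j' hg' :=
    (NatIso.ofComponents (fun M => asIso (Dual3.xi adj adj' e M)) (fun m => hnat m)).symm
  obtain ⟨u⟩ := nonempty_open_counitQ j' hg' hLg'
  refine ⟨asIso η ≪≫ Functor.isoWhiskerLeft (Dual3.bddι Y ⋙ Dual3.LpullQ j hLg)
    (Functor.isoWhiskerRight v (ObjectProperty.ι _ ⋙ DCoh.Lpull j')) ≪≫ ?_⟩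
  exact Functor.isoWhiskerLeft (Dual3.bddι Y ⋙ Dual3.LpullQ j hLg ⋙ a')
    (Functor.isoWhiskerRight u (ObjectProperty.ι _))

end Groth.Lead.ShriekIndep
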