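import Groth.Agent.L29.BCAdj.AdjOpen
import Groth.Agent.L29.BCAdj.HomFlatPC
import Groth.Agent.L29.BC.SupportPush
import Groth.Agent.Lead.ShriekIndep.OpenBC
import Groth.Agent.S1766

/-!
Flat base change of right adjoints of derived direct images of proper morphisms, on bounded below objects.
-/

set_option autoImplicit false
set_option linter.style.haveILetI false
set_option backward.defeqAttrib.useBackward true
set_option backward.isDefEq.respectTransparency false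
set_option backward.isDefEq.respectTransparency.types false

universe u

open CategoryTheory CategoryTheory.Limits CategoryTheory.Pretriangulated AlgebraicGeometry

attribute [local instance] HasDerivedCategory.standard

noncomputable section

namespace Groth.Lead.ShriekIndep

open Groth.L00 Groth.L29 Groth.L29.DC Groth.L29.BCAdj Groth.L29.BC.Paste Groth.L29.AdjSquare Groth.L10.ShriekLoc

variable {X Y : Scheme.{u}}

set_option maxHeartbeats 1600000 in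
theorem isIso_bcMap_open [IsNoetherian Y] {f : X ⟶ Y} [IsProper f] [DCoh.HasRpush f] (V : Y.Opens)
    [DCoh.HasRpush V.ι] [DCoh.HasRpush (f ⁻¹ᵁ V).ι] [DCoh.HasRpush (f ∣_ V)]
    [DCoh.HasLpull V.ι] [DCoh.HasLpull (f ⁻¹ᵁ V).ι]
    {hf : DCoh.RpushPreservesQCoh f} {hf' : DCoh.RpushPreservesQCoh (f ∣_ V)}
    {hg : DCoh.RpushPreservesQCoh V.ι} {hg' : DCoh.RpushPreservesQCoh (f ⁻¹ᵁ V).ι}
    {hLg : Dual3.LpullPreservesQCoh V.ι} {hLg' : Dual3.LpullPreservesQCoh (f ⁻¹ᵁ V).ι}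
    {a : DCoh.DQCoh Y ⥤ DCoh.DQCoh X} {a' : DCoh.DQCoh (V : Scheme.{u}) ⥤ DCoh.DQCoh (f ⁻¹ᵁ V : Scheme.{u})}
    (adj : DCoh.RpushQ f hf ⊣ a) (adj' : DCoh.RpushQ (f ∣_ V) hf' ⊣ a')
    (e : DCoh.RpushQ (f ⁻¹ᵁ V).ι hg' ⋙ DCoh.RpushQ f hf ≅ DCoh.RpushQ (f ∣_ V) hf' ⋙ DCoh.RpushQ V.ι hg)
    (adjg : Dual3.LpullQ V.ι hLg ⊣ DCoh.RpushQ V.ι hg)
    (adjg' : Dual3.LpullQ (f ⁻¹ᵁ V).ι hLg' ⊣ DCoh.RpushQ (f ⁻¹ᵁ V).ι hg')
    (c : ℤ)
    (K : DCoh.DQCoh Y) (hK : K.obj.IsGE c) (hξ : IsIso (Dual3.xi adj adj' e ((Dual3.LpullQ V.ι hLg).obj K))) :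
    IsIso (Dual3.bcMap adj adj' e adjg adjg' K hξ) := by
  haveI := hξ
  haveI : IsLocallyNoetherian X := LocallyOfFiniteType.isLocallyNoetherian f
  haveI : CompactSpace X := QuasiCompact.compactSpace_of_compactSpace f
  haveI : IsNoetherian X := {}
  haveI : (DCoh.Rpush V.ι).Full := Gen.full_push V
  haveI : (DCoh.Rpush V.ι).Faithful := Gen.faithful_push V
  haveI : (DCoh.Rpush (f ⁻¹ᵁ V).ι).Full := Gen.full_push _
  haveI : (DCoh.Rpush (f ⁻¹ᵁ V).ι).Faithful := Gen.faithful_push _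
  haveI : (DCoh.RpushQ V.ι hg).Full := ⟨fun {A B} u =>
    ⟨ObjectProperty.homMk ((DCoh.Rpush V.ι).preimage u.hom), ObjectProperty.hom_ext _ (Functor.map_preimage _ _)⟩⟩
  haveI : (DCoh.RpushQ V.ι hg).Faithful := ⟨fun {A B} u v h =>
    ObjectProperty.hom_ext _ ((DCoh.Rpush V.ι).map_injective (congrArg (·.hom) h))⟩
  haveI : (DCoh.RpushQ (f ⁻¹ᵁ V).ι hg').Full := ⟨fun {A B} u =>
    ⟨ObjectProperty.homMk ((DCoh.Rpush (f ⁻¹ᵁ V).ι).preimage u.hom),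
      ObjectProperty.hom_ext _ (Functor.map_preimage _ _)⟩⟩
  haveI : (DCoh.RpushQ (f ⁻¹ᵁ V).ι hg').Faithful := ⟨fun {A B} u v h =>
    ObjectProperty.hom_ext _ ((DCoh.Rpush (f ⁻¹ᵁ V).ι).map_injective (congrArg (·.hom) h))⟩
  haveI : IsIso ((Dual3.LpullQ V.ι hLg).map (adjg.unit.app K)) :=
    IsIso.of_isIso_fac_right (hh := IsIso.id _) (adjg.left_triangle_components K)
  let η := adjg.unit.app K
  letI := Gen.commShiftRpush f
  haveI := Gen.isTriangulated_Rpush f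
  haveI : (DCoh.RpushQ f hf).IsTriangulated := by
    refine ⟨fun T hT => ?_⟩
    exact isomorphic_distinguished _ ((ObjectProperty.ι DCoh.IsQCohD ⋙ DCoh.Rpush f).map_distinguished _ hT) _
      ((Functor.mapTriangleCompIso (DCoh.RpushQ f hf) (ObjectProperty.ι DCoh.IsQCohD)).symm.app T ≪≫
        (Functor.mapTriangleIso (ObjectProperty.liftCompιIso DCoh.IsQCohD _ _)).app T)
  letI := adj.rightAdjointCommShift ℤ
  haveI := adj.commShift_of_leftAdjoint ℤ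
  haveI := adj.isTriangulated_rightAdjoint
  obtain ⟨C, q, d, hT⟩ := distinguished_cocone_triangle η
  have hTY := (DCoh.IsQCohD (X := Y)).ι.map_distinguished _ hT
  have hTX := (DCoh.IsQCohD (X := X)).ι.map_distinguished _ (a.map_distinguished _ hT)
  let uV : DCoh.Lpull V.ι ≅ DCoh.restrictD V.ι := (BC.adj V.ι).leftAdjointUniq (Cpt.restrictRpushAdj V.ι)
  let uW : DCoh.Lpull (f ⁻¹ᵁ V).ι ≅ DCoh.restrictD (f ⁻¹ᵁ V).ι :=
    (BC.adj (f ⁻¹ᵁ V).ι).leftAdjointUniq (Cpt.restrictRpushAdj (f ⁻¹ᵁ V).ι)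
  have hC : IsZero ((resD V).obj C.obj) := by
    haveI : IsIso ((DCoh.Lpull V.ι).map η.hom) :=
      inferInstanceAs (IsIso ((DCoh.IsQCohD (X := (V : Scheme.{u}))).ι.map ((Dual3.LpullQ V.ι hLg).map η)))
    exact (Triangle.isZero₃_iff_isIso₁ _ ((resD V).map_distinguished _ hTY)).2
      ((NatIso.isIso_map_iff uV η.hom).1 inferInstance)
  have hCge : C.obj.IsGE (c - 1) := by
    let t := DerivedCategory.TStructure.t (C := Y.Modules)
    let KV : DCoh.DQCoh (V : Scheme.{u}) := (Dual3.LpullQ V.ι hLg).obj K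
    haveI : KV.obj.IsGE c := BCAdj.isGE_Lpull_flat V.ι K.obj c hK
    have h1 : t.IsGE ((DCoh.Rpush V.ι).obj KV.obj) (c - 1) :=
      haveI : t.IsGE ((DCoh.Rpush V.ι).obj KV.obj) c := RpushQC.isGE_Rpush V.ι KV.obj c
      t.isGE_of_ge _ (c - 1) c (by omega)
    have h2 : t.IsGE (K.obj⟦(1 : ℤ)⟧) (c - 1) :=
      haveI : t.IsGE K.obj c := hK
      t.isGE_shift K.obj c 1 (c - 1) (by omega)
    exact t.isGE₂ _ (rot_of_distTriang _ hTY) (c - 1) h1 h2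
  have haC : IsZero ((resD (f ⁻¹ᵁ V)).obj (a.obj C).obj) :=
    BC.SupportAdj.isZero_res_adjoint f V (TopologicalSpace.NoetherianSpace.isCompact _) hf a adj C (fun P hP E _ _ hE => by
      obtain ⟨i⟩ := hE
      exact BC.SupportAdj.qcoh_RHom_of_pc
          (fun m => isPseudoCoherentD_of_iso i.symm (BC.SupportAdj.pc_Rpush_perfect f hP m)) C.property (c - 1) hCge) hC
  haveI : IsIso ((Dual3.LpullQ (f ⁻¹ᵁ V).ι hLg').map (a.map η)) := by
    haveI : IsIso ((DCoh.IsQCohD (X := (f ⁻¹ᵁ V : Scheme.{u}))).ι.map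
        ((Dual3.LpullQ (f ⁻¹ᵁ V).ι hLg').map (a.map η))) :=
      (NatIso.isIso_map_iff uW (a.map η).hom).2
        ((Triangle.isZero₃_iff_isIso₁ _ ((resD (f ⁻¹ᵁ V)).map_distinguished _ hTX)).1 haC)
    exact isIso_of_reflects_iso _ (DCoh.IsQCohD (X := (f ⁻¹ᵁ V : Scheme.{u}))).ι
  unfold Dual3.bcMap
  infer_instance


variable {X' Y' : Scheme.{u}} {f : X ⟶ Y} {g : Y' ⟶ Y} {f' : X' ⟶ Y'} {g' : X' ⟶ X}

/-- flat base change of maps out of pseudo-coherent objects, affine schemes -/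
theorem bij_affine_pc {Y Y' : Scheme.{u}} [IsAffine Y] [IsAffine Y'] [IsNoetherian Y] (g : Y' ⟶ Y) [Flat g]
    [DCoh.HasRpush g] [DCoh.HasLpull g] :
    letI := g.appTop.hom.toAlgebra
    letI : Y.Over (Spec Γ(Y, ⊤)) := ⟨Y.isoSpec.hom⟩
    letI : Y'.Over (Spec Γ(Y', ⊤)) := ⟨Y'.isoSpec.hom⟩
    ∀ (hL : SL (C := DCoh.D Y) (C' := DCoh.D Y') (algebraMap Γ(Y, ⊤) Γ(Y', ⊤)) (DCoh.Lpull g))
      [(DCoh.Lpull g).Additive] (N x : DCoh.D Y), DCoh.IsQCohD N → (∀ m : ℤ, DCoh.IsPseudoCoherentD m N) →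
        DCoh.IsQCohD x → ∀ c : ℤ, x.IsGE c → Bij (DCoh.Lpull g) hL N x := by
  letI := g.appTop.hom.toAlgebra
  letI iY : Y.Over (Spec Γ(Y, ⊤)) := ⟨Y.isoSpec.hom⟩
  letI iY' : Y'.Over (Spec Γ(Y', ⊤)) := ⟨Y'.isoSpec.hom⟩
  intro hL _ N x hNq hN hx c hc
  haveI : Module.Flat Γ(Y, ⊤) Γ(Y', ⊤) :=
    RingHom.flat_algebraMap_iff.1 ((HasRingHomProperty.iff_of_isAffine (P := @Flat)).1 (inferInstance : Flat g))
  haveI : IsIso (Y' ↘ Spec Γ(Y', ⊤)) := inferInstanceAs (IsIso Y'.isoSpec.hom)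
  haveI : IsIso (Y ↘ Spec Γ(Y, ⊤)) := inferInstanceAs (IsIso Y.isoSpec.hom)
  have hc' : IsPullback g (Y' ↘ Spec Γ(Y', ⊤)) (Y ↘ Spec Γ(Y, ⊤))
      (Spec.map (CommRingCat.ofHom (algebraMap Γ(Y, ⊤) Γ(Y', ⊤)))) :=
    IsPullback.of_vert_isIso ⟨(Scheme.isoSpec_hom_naturality g).symm⟩
  exact bij_pc hc' hL hNq hN hx c hc

set_option maxHeartbeats 1600000 in
/-- base change maps along flat morphisms are invertible on bounded below objects -/
theorem isIso_bcMap_flat [IsNoetherian X] [IsNoetherian Y] [IsNoetherian Y'] [CompactSpace X'] [QuasiSeparatedSpace X']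
    (hsq : IsPullback g' f' f g) [IsProper f] [IsProper f'] [Flat g]
    [DCoh.HasRpush f] [DCoh.HasRpush f'] [DCoh.HasRpush g] [DCoh.HasRpush g']
    {hf : DCoh.RpushPreservesQCoh f} {hf' : DCoh.RpushPreservesQCoh f'} {hg : DCoh.RpushPreservesQCoh g}
    {hg' : DCoh.RpushPreservesQCoh g'} {a : DCoh.DQCoh Y ⥤ DCoh.DQCoh X} {a' : DCoh.DQCoh Y' ⥤ DCoh.DQCoh X'}
    (adj : DCoh.RpushQ f hf ⊣ a) (adj' : DCoh.RpushQ f' hf' ⊣ a') [DCoh.HasLpull g] [DCoh.HasLpull g']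
    {hLg : Dual3.LpullPreservesQCoh g} {hLg' : Dual3.LpullPreservesQCoh g'}
    (adjg : Dual3.LpullQ g hLg ⊣ DCoh.RpushQ g hg) (adjg' : Dual3.LpullQ g' hLg' ⊣ DCoh.RpushQ g' hg')
    (K : DCoh.DQCoh Y) (c : ℤ) (hK : K.obj.IsGE c)
    (hθ : ∀ E, IsIso (bc adjg adjg' (eQ hf hf' hg hg' hsq.w) E))
    (hξ : IsIso (Dual3.xi adj adj' (eQ hf hf' hg hg' hsq.w) ((Dual3.LpullQ g hLg).obj K))) :
    IsIso (Dual3.bcMap adj adj' (eQ hf hf' hg hg' hsq.w) adjg adjg' K hξ) := by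
  haveI := fun {A B : Scheme.{u}} (h : A ⟶ B) => RpushQC.hasRpush h
  haveI := fun {A B : Scheme.{u}} (h : A ⟶ B) => KFlat.hasLpull h
  set β := Dual3.bcMap adj adj' (eQ hf hf' hg hg' hsq.w) adjg adjg' K hξ with hβdef
  have hβT : Mate.Tr adj adj' (eQ hf hf' hg hg' hsq.w) adjg adjg' K β := Mate.tr_bcMap adj adj' _ adjg adjg' K _
  suffices IsIso β.hom by
    haveI : IsIso ((DCoh.IsQCohD (X := X')).ι.map β) := this
    exact isIso_of_reflects_iso β (DCoh.IsQCohD (X := X')).ι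
  refine BC.isIso_of_Lpull_cover β.hom fun x => ?_
  obtain ⟨_, ⟨(V : Y.Opens), hV, rfl⟩, hyV, -⟩ :=
    Y.isBasis_affineOpens.exists_subset_of_mem_open (Set.mem_univ (g (f' x))) isOpen_univ
  obtain ⟨_, ⟨(V' : Y'.Opens), hV', rfl⟩, hyV', hle⟩ :=
    Y'.isBasis_affineOpens.exists_subset_of_mem_open (show f' x ∈ g ⁻¹ᵁ V from hyV) (g ⁻¹ᵁ V).2
  haveI : IsAffine (V : Scheme.{u}) := hV
  haveI : IsAffine (V' : Scheme.{u}) := hV'
  let W := f ⁻¹ᵁ V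
  let W' := f' ⁻¹ᵁ V'
  have h' : W' ≤ g' ⁻¹ᵁ W := fun z hz => by
    show f (g' z) ∈ V
    rw [← Scheme.Hom.comp_apply, hsq.w, Scheme.Hom.comp_apply]
    exact hle hz
  let k := g'.resLE W W' h'
  let g₀ := g.resLE V V' hle
  have ek : k ≫ W.ι = W'.ι ≫ g' := Scheme.Hom.resLE_comp_ι _ _
  have eg : g₀ ≫ V.ι = V'.ι ≫ g := Scheme.Hom.resLE_comp_ι _ _
  have hk : IsPullback W'.ι (f' ∣_ V') f' V'.ι := (isPullback_morphismRestrict f' V').flip
  have hi : IsPullback W.ι (f ∣_ V) f V.ι := (isPullback_morphismRestrict f V).flip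
  have htot : IsPullback (k ≫ W.ι) (f' ∣_ V') f (g₀ ≫ V.ι) := by
    rw [eg, ek]
    exact hk.paste_horiz hsq
  have hc₀ : IsPullback k (f' ∣_ V') (f ∣_ V) g₀ := IsPullback.of_right htot (by
    rw [← cancel_mono V.ι]
    simp only [Category.assoc, morphismRestrict_ι, eg]
    rw [reassoc_of% ek, hsq.w, morphismRestrict_ι_assoc]) hi
  haveI : Flat g₀ := inferInstance
  haveI : CompactSpace (V' : Scheme.{u}) := isCompact_iff_compactSpace.1 hV'.isCompact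
  haveI : CompactSpace (V : Scheme.{u}) := isCompact_iff_compactSpace.1 hV.isCompact
  haveI : CompactSpace (W' : Scheme.{u}) := isCompact_iff_compactSpace.1 (f'.isCompact_preimage hV'.isCompact)
  haveI : CompactSpace (W : Scheme.{u}) := isCompact_iff_compactSpace.1 (f.isCompact_preimage hV.isCompact)
  haveI : QuasiSeparatedSpace (W' : Scheme.{u}) := quasiSeparatedSpace_of_quasiSeparated W'.ι
  haveI : QuasiSeparatedSpace (W : Scheme.{u}) := quasiSeparatedSpace_of_quasiSeparated W.ι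
  have hR : ∀ {A B : Scheme.{u}} (j : A ⟶ B) [QuasiCompact j] [QuasiSeparated j], DCoh.RpushPreservesQCoh j :=
    fun j _ _ K hK => RpushQC.isQCohD_Rpush j K hK
  have hL : ∀ {A B : Scheme.{u}} (j : A ⟶ B), Dual3.LpullPreservesQCoh j := fun j K hK => isQCohD_Lpull j hK
  haveI : QuasiCompact (g₀ ≫ V.ι) := inferInstance
  haveI : QuasiCompact (k ≫ W.ι) := inferInstance
  let fV := f ∣_ V
  let fV' := f' ∣_ V'
  obtain ⟨aV, ⟨adjV⟩⟩ : ∃ aV, Nonempty (DCoh.RpushQ fV (hR fV) ⊣ aV) := by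
    haveI := Groth.Agent.S1766.result (W : Scheme.{u}) (V : Scheme.{u}) fV (hR fV)
    exact ⟨_, ⟨Adjunction.ofIsLeftAdjoint (DCoh.RpushQ fV (hR fV))⟩⟩
  obtain ⟨aV', ⟨adjV'⟩⟩ : ∃ aV', Nonempty (DCoh.RpushQ fV' (hR fV') ⊣ aV') := by
    haveI := Groth.Agent.S1766.result (W' : Scheme.{u}) (V' : Scheme.{u}) fV' (hR fV')
    exact ⟨_, ⟨Adjunction.ofIsLeftAdjoint (DCoh.RpushQ fV' (hR fV'))⟩⟩
  -- the five squares
  let AV := adjQ V.ι (hR V.ι) (hL V.ι)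
  let AW := adjQ W.ι (hR W.ι) (hL W.ι)
  let AV' := adjQ V'.ι (hR V'.ι) (hL V'.ι)
  let AW' := adjQ W'.ι (hR W'.ι) (hL W'.ι)
  let A₀ := adjQ g₀ (hR g₀) (hL g₀)
  let A₀' := adjQ k (hR k) (hL k)
  let Ah := adjQ (g₀ ≫ V.ι) (hR _) (hL _)
  let Ah' := adjQ (k ≫ W.ι) (hR _) (hL _)
  let ei := eQ hf (hR fV) (hR V.ι) (hR W.ι) hi.w
  let ek' := eQ hf' (hR fV') (hR V'.ι) (hR W'.ι) hk.w
  let e₀ := eQ (hR fV) (hR fV') (hR g₀) (hR k) hc₀.w
  let et := eQ hf (hR fV') (hR (g₀ ≫ V.ι)) (hR (k ≫ W.ι)) htot.w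
  have hθi := BCAdj.isIso_bcQ (hf := hf) (hf' := hR fV) AV AW (BC.BC_flat hi)
  have hθk := BCAdj.isIso_bcQ (hf := hf') (hf' := hR fV') AV' AW' (BC.BC_flat hk)
  have hθ₀ := BCAdj.isIso_bcQ (hf := hR fV) (hf' := hR fV') A₀ A₀' (BC.BC_flat hc₀)
  have hθt := BCAdj.isIso_bcQ (hf := hf) (hf' := hR fV') Ah Ah' (BC.BC_flat htot)
  let LgK := (Dual3.LpullQ g hLg).obj K
  let KV := (Dual3.LpullQ V.ι (hL V.ι)).obj K
  let βk := Dual3.bcMap adj' adjV' ek' AV' AW' LgK (Mate.isIso_xi adj' adjV' _ AV' AW' hθk _)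
  let βi := Dual3.bcMap adj adjV ei AV AW K (Mate.isIso_xi adj adjV _ AV AW hθi _)
  let β₀ := Dual3.bcMap adjV adjV' e₀ A₀ A₀' KV (Mate.isIso_xi adjV adjV' _ A₀ A₀' hθ₀ _)
  haveI : IsProper fV := inferInstanceAs (IsProper (f ∣_ V))
  haveI : IsLocallyNoetherian (V : Scheme.{u}) := isLocallyNoetherian_of_isOpenImmersion V.ι
  haveI : IsNoetherian (V : Scheme.{u}) := {}
  haveI hKV : KV.obj.IsGE c := BCAdj.isGE_Lpull_flat V.ι K.obj c hK
  haveI hLgK : LgK.obj.IsGE c := BCAdj.isGE_Lpull_flat g K.obj c hK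
  haveI : IsIso βk := isIso_bcMap_open V' adj' adjV' ek' AV' AW' c LgK hLgK _
  haveI : IsIso βi := isIso_bcMap_open V adj adjV ei AV AW c K hK _
  haveI : IsIso β₀ := by
    refine isIso_bcMap_affine A₀ A₀' hc₀ adjV adjV' hθ₀ KV _ ?_
    intro hL' _ P hPP
    exact bij_affine_pc g₀ hL' _ _ (hR fV P (PCQCoh.isQCohD_of_perfect hPP))
      (fun m => BC.SupportAdj.pc_Rpush_perfect fV hPP m) KV.property c hKV
  let c₁ := cQ (hR V'.ι) hg (hR (g₀ ≫ V.ι)) eg.symm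
  let c₁' := cQ (hR W'.ι) hg' (hR (k ≫ W.ι)) ek.symm
  let c₂ := cQ (hR g₀) (hR V.ι) (hR (g₀ ≫ V.ι)) rfl
  let c₂' := cQ (hR k) (hR W.ι) (hR (k ≫ W.ι)) rfl
  have T₁ := Mate.Tr.vert hβT (Mate.tr_bcMap adj' adjV' ek' AV' AW' LgK (Mate.isIso_xi adj' adjV' _ AV' AW' hθk _))
    c₁ c₁' et (fun Z => ObjectProperty.hom_ext _ (hcomp_vert hsq.w hk.w htot.w eg.symm ek.symm Z.obj))
  have T₂ := Mate.Tr.vert (Mate.tr_bcMap adj adjV ei AV AW K (Mate.isIso_xi adj adjV _ AV AW hθi _))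
    (Mate.tr_bcMap adjV adjV' e₀ A₀ A₀' KV (Mate.isIso_xi adjV adjV' _ A₀ A₀' hθ₀ _))
    c₂ c₂' et (fun Z => ObjectProperty.hom_ext _ (hcomp_vert hi.w hc₀.w htot.w rfl rfl Z.obj))
  haveI := hθt (a.obj K)
  have heq := (T₁.congr Ah Ah').unique (T₂.congr Ah Ah')
  have hiso : IsIso ((Dual3.LpullQ W'.ι (hL W'.ι)).map β ≫ βk) := by
    haveI : IsIso ((Dual3.LpullQ k (hL k)).map βi ≫ β₀) := inferInstance
    have h2 : IsIso (((adjComp adjg' AW' c₁').leftAdjointUniq Ah').inv.app (a.obj K) ≫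
        ((Dual3.LpullQ W'.ι (hL W'.ι)).map β ≫ βk) ≫
          aV'.map (((adjComp adjg AV' c₁).leftAdjointUniq Ah).hom.app K)) := by
      erw [heq]
      exact inferInstanceAs (IsIso (((adjComp AW A₀' c₂').leftAdjointUniq Ah').inv.app (a.obj K) ≫
        ((Dual3.LpullQ k (hL k)).map βi ≫ β₀) ≫
          aV'.map (((adjComp AV A₀ c₂).leftAdjointUniq Ah).hom.app K)))
    haveI := h2
    haveI : IsIso (((Dual3.LpullQ W'.ι (hL W'.ι)).map β ≫ βk) ≫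
        aV'.map (((adjComp adjg AV' c₁).leftAdjointUniq Ah).hom.app K)) :=
      IsIso.of_isIso_comp_left (((adjComp adjg' AW' c₁').leftAdjointUniq Ah').inv.app (a.obj K)) _
    exact IsIso.of_isIso_comp_right _ (aV'.map (((adjComp adjg AV' c₁).leftAdjointUniq Ah).hom.app K))
  haveI := hiso
  haveI : IsIso ((Dual3.LpullQ W'.ι (hL W'.ι)).map β) := IsIso.of_isIso_comp_right _ βk
  exact ⟨W', inferInstance, hyV',
    inferInstanceAs (IsIso ((DCoh.IsQCohD (X := (W' : Scheme.{u}))).ι.map ((Dual3.LpullQ W'.ι (hL W'.ι)).map β)))⟩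


/-- the natural isomorphism `Lg'^* a ≅ a' Lg^*` on bounded below objects -/
theorem nonempty_flatBC [IsNoetherian X] [IsNoetherian Y] [IsNoetherian Y'] [CompactSpace X'] [QuasiSeparatedSpace X']
    (hsq : IsPullback g' f' f g) [IsProper f] [IsProper f'] [Flat g]
    [DCoh.HasRpush f] [DCoh.HasRpush f']
    {hf : DCoh.RpushPreservesQCoh f} {hf' : DCoh.RpushPreservesQCoh f'}
    {a : DCoh.DQCoh Y ⥤ DCoh.DQCoh X} {a' : DCoh.DQCoh Y' ⥤ DCoh.DQCoh X'}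
    (adj : DCoh.RpushQ f hf ⊣ a) (adj' : DCoh.RpushQ f' hf' ⊣ a') [DCoh.HasLpull g] [DCoh.HasLpull g'] :
    Nonempty (Dual3.bddι Y ⋙ a ⋙ ObjectProperty.ι _ ⋙ DCoh.Lpull g' ≅
      Dual3.bddι Y ⋙ Dual3.LpullQ g (isQCohD_pull g) ⋙ a' ⋙ ObjectProperty.ι _) := by
  haveI := fun {A B : Scheme.{u}} (h : A ⟶ B) => RpushQC.hasRpush h
  haveI : QuasiCompact g' := MorphismProperty.of_isPullback hsq.flip inferInstance
  haveI : QuasiSeparated g' := MorphismProperty.of_isPullback hsq.flip inferInstance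
  let hg := isQCohD_push g
  let hg' := isQCohD_push g'
  let hLg := isQCohD_pull g
  let hLg' := isQCohD_pull g'
  let adjg := adjQ g hg hLg
  let adjg' := adjQ g' hg' hLg'
  have hθ := isIso_bcQ (hf := hf) (hf' := hf') adjg adjg' (BC.BC_flat hsq)
  let e := eQ hf hf' hg hg' hsq.w
  haveI hx : ∀ M, IsIso (Dual3.xi adj adj' e M) := fun M => Mate.isIso_xi adj adj' e adjg adjg' hθ M
  haveI hb : ∀ K : (Dual3.IsBddBelowQ Y).FullSubcategory,
      IsIso (Dual3.bcMap adj adj' e adjg adjg' K.obj (hx _)) := fun K =>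
    isIso_bcMap_flat hsq adj adj' adjg adjg' K.obj _ K.property.choose_spec hθ (hx _)
  have hnat : ∀ {M N : DCoh.DQCoh Y'} (m : M ⟶ N),
      (DCoh.RpushQ g' hg').map (a'.map m) ≫ Dual3.xi adj adj' e N =
        Dual3.xi adj adj' e M ≫ a.map ((DCoh.RpushQ g hg).map m) := fun {M N} m => by
    simp only [Dual3.xi]
    rw [← Adjunction.homEquiv_naturality_left, ← Adjunction.homEquiv_naturality_right]
    refine congrArg (adj.homEquiv _ _) ?_
    refine (e.hom.naturality_assoc (a'.map m) _).trans ?_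
    rw [Category.assoc, Functor.comp_map]
    rw [← (DCoh.RpushQ g hg).map_comp, ← (DCoh.RpushQ g hg).map_comp]
    exact congrArg (fun t => e.hom.app (a'.obj M) ≫ (DCoh.RpushQ g hg).map t) (adj'.counit.naturality m)
  have hinv : ∀ {M N : DCoh.DQCoh Y'} (m : M ⟶ N),
      a.map ((DCoh.RpushQ g hg).map m) ≫ inv (Dual3.xi adj adj' e N) =
        inv (Dual3.xi adj adj' e M) ≫ (DCoh.RpushQ g' hg').map (a'.map m) := fun {M N} m => by
    rw [IsIso.comp_inv_eq, Category.assoc, hnat, IsIso.inv_hom_id_assoc]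
  refine ⟨NatIso.ofComponents
    (fun K => (DCoh.IsQCohD (X := X')).ι.mapIso (asIso (Dual3.bcMap adj adj' e adjg adjg' K.obj (hx _)))) ?_⟩
  intro K K' k
  change ((Dual3.LpullQ g' hLg').map (a.map k.hom)).hom ≫ (Dual3.bcMap adj adj' e adjg adjg' K'.obj (hx _)).hom =
    (Dual3.bcMap adj adj' e adjg adjg' K.obj (hx _)).hom ≫ (a'.map ((Dual3.LpullQ g hLg).map k.hom)).hom
  rw [← ObjectProperty.FullSubcategory.comp_hom, ← ObjectProperty.FullSubcategory.comp_hom]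
  refine congrArg InducedCategory.Hom.hom ?_
  simp only [Dual3.bcMap, Category.assoc]
  have h1 : k.hom ≫ adjg.unit.app K'.obj =
      adjg.unit.app K.obj ≫ (DCoh.RpushQ g hg).map ((Dual3.LpullQ g hLg).map k.hom) := adjg.unit.naturality k.hom
  rw [← Functor.map_comp_assoc, ← a.map_comp, h1, a.map_comp, Functor.map_comp, Category.assoc]
  rw [← (Dual3.LpullQ g' hLg').map_comp_assoc (a.map ((DCoh.RpushQ g hg).map ((Dual3.LpullQ g hLg).map k.hom))),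
    hinv, Functor.map_comp, Category.assoc]
  refine congrArg ((Dual3.LpullQ g' hLg').map (a.map (adjg.unit.app K.obj)) ≫ ·) ?_
  refine congrArg ((Dual3.LpullQ g' hLg').map (inv (Dual3.xi adj adj' e ((Dual3.LpullQ g hLg).obj K.obj))) ≫ ·) ?_
  exact adjg'.counit.naturality (a'.map ((Dual3.LpullQ g hLg).map k.hom))

end Groth.Lead.ShriekIndep
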